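import Mathlib
import Cfsg.Agent.Lib.Helper51.Zass.Defs

/-!
# ZASS (S0690), package [T1], part 2 (helper80): the quaternion frame of a line
-/

set_option autoImplicit false

namespace Cfsg.Agent.Lib.Helper80.Zass

open Cfsg.Agent.Lib.Helper51.Zass

universe u

set_option maxRecDepth 100000 in
set_option synthInstance.maxHeartbeats 400000 in
set_option synthInstance.maxSize 4096 in
theorem a4_facts80 : ∀ u v : alternatingGroup (Fin 4), u ^ 3 = 1 → u ≠ 1 → v ^ 3 = 1 → v ≠ 1 →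
    v ≠ u → v ≠ u⁻¹ →
    ((u * v⁻¹) ≠ 1 ∧ (u * v⁻¹) * (u * v⁻¹) = 1 ∧
      ((u * v⁻¹) * (u * (u * v⁻¹) * u⁻¹)) * ((u * v⁻¹) * (u * (u * v⁻¹) * u⁻¹)) = 1 ∧
      (u * v⁻¹) * (u * (u * v⁻¹) * u⁻¹) ≠ 1 ∧
      u * (u * (u * v⁻¹) * u⁻¹) * u⁻¹ = (u * v⁻¹) * (u * (u * v⁻¹) * u⁻¹)) ∨
    ((u * v) ≠ 1 ∧ (u * v) * (u * v) = 1 ∧
      ((u * v) * (u * (u * v) * u⁻¹)) * ((u * v) * (u * (u * v) * u⁻¹)) = 1 ∧
      (u * v) * (u * (u * v) * u⁻¹) ≠ 1 ∧
      u * (u * (u * v) * u⁻¹) * u⁻¹ = (u * v) * (u * (u * v) * u⁻¹)) := by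
  decide

theorem card_a4_80 : Nat.card (alternatingGroup (Fin 4)) = 12 := by
  rw [Nat.card_eq_fintype_card]
  decide

theorem anti80 {R : Type*} [Ring R] (X Y : R) (hX : X * X = -1) (hY : Y * Y = -1)
    (hXY : (X * Y) * (X * Y) = -1) : Y * X = -(X * Y) := by
  have h1 : X * ((X * Y) * (X * Y)) * Y = (X * X) * (Y * X) * (Y * Y) := by
    simp only [mul_assoc]
  rw [hXY, hX, hY] at h1
  simp only [mul_neg, neg_mul, mul_one, one_mul, neg_neg] at h1
  exact h1.symm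

/-- the quaternion frame of a line through `w`. -/
theorem line_frame80 {p : ℕ} [Fact p.Prime] {V : Type u} [AddCommGroup V] [Module (ZMod p) V]
    {G : Type u} [Group G] [Finite G]
    (ρ : G →* Module.End (ZMod p) V) (hfpf : ∀ g : G, g ≠ 1 → ∀ v : V, ρ g v = v → v = 0)
    (hui : ∀ s t : G, orderOf s = 2 → orderOf t = 2 → s = t)
    (w a : G) (hw : orderOf w = 3) (ha : orderOf a = 3)
    (hL : IsLine (Subgroup.closure {w, a})) :
    ∃ (x z₀ : G) (X Y : Module.End (ZMod p) V), x ∈ Subgroup.closure {w, a} ∧ z₀ ≠ 1 ∧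
      z₀ * z₀ = 1 ∧ (X = ρ x ∨ X = -ρ x) ∧ X * X = -1 ∧ Y * Y = -1 ∧ Y * X = -(X * Y) ∧
      ρ w * X = Y * ρ w ∧ ρ w * Y = X * (Y * ρ w) ∧ (a = x⁻¹ * w ∨ a = w⁻¹ * x) := by
  obtain ⟨f, hfsurj, hfker⟩ := hL
  have hwL : w ∈ Subgroup.closure ({w, a} : Set G) := Subgroup.subset_closure (by simp)
  have haL : a ∈ Subgroup.closure ({w, a} : Set G) := Subgroup.subset_closure (by simp)
  obtain ⟨wL, hwLdef⟩ : ∃ wL : ↥(Subgroup.closure ({w, a} : Set G)), wL = ⟨w, hwL⟩ := ⟨_, rfl⟩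
  obtain ⟨aL, haLdef⟩ : ∃ aL : ↥(Subgroup.closure ({w, a} : Set G)), aL = ⟨a, haL⟩ := ⟨_, rfl⟩
  have hwLc : (wL : G) = w := by rw [hwLdef]
  have haLc : (aL : G) = a := by rw [haLdef]
  obtain ⟨u, hu⟩ : ∃ u, u = f wL := ⟨_, rfl⟩
  obtain ⟨v, hv⟩ : ∃ v, v = f aL := ⟨_, rfl⟩
  -- the kernel
  obtain ⟨z, hz1, hzuniq⟩ := (Nat.card_eq_two_iff' (1 : f.ker)).mp hfker
  have hker : ∀ g : ↥(Subgroup.closure ({w, a} : Set G)), f g = 1 → g = 1 ∨ g = (z : ↥(Subgroup.closure ({w, a} : Set G))) := by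
    intro g hg
    by_cases h1 : g = 1
    · exact Or.inl h1
    · right
      have h2 : (⟨g, MonoidHom.mem_ker.mpr hg⟩ : f.ker) ≠ 1 := by
        intro h
        exact h1 (congrArg Subtype.val h)
      exact congrArg Subtype.val (hzuniq ⟨g, MonoidHom.mem_ker.mpr hg⟩ h2)
  have hfz : f (z : ↥(Subgroup.closure ({w, a} : Set G))) = 1 := MonoidHom.mem_ker.mp z.2
  have hzne : (z : ↥(Subgroup.closure ({w, a} : Set G))) ≠ 1 := by
    intro h
    exact hz1 (Subtype.ext h)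
  have hzz : (z : ↥(Subgroup.closure ({w, a} : Set G))) * (z : ↥(Subgroup.closure ({w, a} : Set G))) = 1 := by
    rcases hker (z * z) (by rw [map_mul, hfz, one_mul]) with h | h
    · exact h
    · exfalso
      exact hzne (mul_eq_left.mp h)
  obtain ⟨z₀, hz₀⟩ : ∃ z₀ : G, z₀ = ((z : ↥(Subgroup.closure ({w, a} : Set G))) : G) := ⟨_, rfl⟩
  have hz₀1 : z₀ ≠ 1 := by
    intro h
    apply hzne
    apply Subtype.ext
    rw [← hz₀, h]
    rfl
  have hz₀2 : z₀ * z₀ = 1 := by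
    have h := congrArg Subtype.val hzz
    rw [hz₀]
    exact h
  have hz₀ord : orderOf z₀ = 2 := orderOf_eq_prime (by rw [pow_two]; exact hz₀2) hz₀1
  have hneg : ∀ g : G, g ≠ 1 → g * g = 1 → ρ g = -1 := by
    intro g hg1 hg2
    apply LinearMap.ext
    intro y
    have h := hfpf g hg1 (ρ g y + y) (by
      rw [map_add, ← Module.End.mul_apply, ← map_mul, hg2, map_one, Module.End.one_apply,
        add_comm])
    rw [LinearMap.neg_apply, Module.End.one_apply]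
    exact eq_neg_of_add_eq_zero_left h
  have hρz : ρ z₀ = -1 := hneg z₀ hz₀1 hz₀2
  -- elements with involution image square to `z`
  have hinvol : ∀ g : ↥(Subgroup.closure ({w, a} : Set G)), f g ≠ 1 → f g * f g = 1 →
      ρ (g : G) * ρ (g : G) = -1 := by
    intro g hg1 hg2
    rcases hker (g * g) (by rw [map_mul, hg2]) with h | h
    · exfalso
      have hgne : (g : G) ≠ 1 := by
        intro h'
        apply hg1
        have : g = 1 := Subtype.ext h'
        rw [this, map_one]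
      have hgg : (g : G) * (g : G) = 1 := congrArg Subtype.val h
      have hord : orderOf (g : G) = 2 := orderOf_eq_prime (by rw [pow_two]; exact hgg) hgne
      have h3 := hui (g : G) z₀ hord hz₀ord
      apply hg1
      have : g = z := Subtype.ext (by rw [h3, hz₀])
      rw [this, hfz]
    · have hgg : (g : G) * (g : G) = z₀ := by
        rw [hz₀]
        exact congrArg Subtype.val h
      rw [← map_mul, hgg, hρz]
  -- u and v
  have hw3 : w ^ 3 = 1 := by rw [← hw]; exact pow_orderOf_eq_one w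
  have ha3 : a ^ 3 = 1 := by rw [← ha]; exact pow_orderOf_eq_one a
  have hu3 : u ^ 3 = 1 := by
    rw [hu, ← map_pow]
    have : wL ^ 3 = 1 := Subtype.ext (by rw [Subgroup.coe_pow, hwLc, hw3]; rfl)
    rw [this, map_one]
  have hv3 : v ^ 3 = 1 := by
    rw [hv, ← map_pow]
    have : aL ^ 3 = 1 := Subtype.ext (by rw [Subgroup.coe_pow, haLc, ha3]; rfl)
    rw [this, map_one]
  have hu1 : u ≠ 1 := by
    intro h
    rw [hu] at h
    rcases hker wL h with h' | h'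
    · have h2 : w = 1 := by rw [← hwLc, h']; rfl
      rw [h2, orderOf_one] at hw
      exact absurd hw (by decide)
    · have h2 : w = z₀ := by rw [← hwLc, h', hz₀]
      rw [h2, hz₀ord] at hw
      exact absurd hw (by decide)
  have hvu : v ∉ Subgroup.zpowers u := by
    intro hv'
    have himg : ∀ (g : G) (hg : g ∈ Subgroup.closure ({w, a} : Set G)),
        f ⟨g, hg⟩ ∈ Subgroup.zpowers u := by
      intro g hg
      induction hg using Subgroup.closure_induction with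
      | mem x hx =>
        rcases hx with h | h
        · have e : (⟨x, Subgroup.subset_closure (Or.inl h)⟩ : ↥(Subgroup.closure ({w, a} : Set G))) = wL := by
            rw [hwLdef]
            exact Subtype.ext h
          rw [e, ← hu]
          exact Subgroup.mem_zpowers u
        · have e : (⟨x, Subgroup.subset_closure (Or.inr h)⟩ : ↥(Subgroup.closure ({w, a} : Set G))) = aL := by
            rw [haLdef]
            exact Subtype.ext h
          rw [e, ← hv]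
          exact hv'
      | one =>
        have e : (⟨1, Subgroup.one_mem _⟩ : ↥(Subgroup.closure ({w, a} : Set G))) = 1 := rfl
        rw [e, map_one]
        exact Subgroup.one_mem _
      | mul x y hx hy ihx ihy =>
        have e : (⟨x * y, Subgroup.mul_mem _ hx hy⟩ : ↥(Subgroup.closure ({w, a} : Set G))) =
            ⟨x, hx⟩ * ⟨y, hy⟩ := rfl
        rw [e, map_mul]
        exact Subgroup.mul_mem _ ihx ihy
      | inv x hx ih =>
        have e : (⟨x⁻¹, Subgroup.inv_mem _ hx⟩ : ↥(Subgroup.closure ({w, a} : Set G))) =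
            (⟨x, hx⟩ : ↥(Subgroup.closure ({w, a} : Set G)))⁻¹ := rfl
        rw [e, map_inv]
        exact Subgroup.inv_mem _ ih
    have htop : Subgroup.zpowers u = ⊤ := by
      rw [eq_top_iff]
      intro t _
      obtain ⟨g, rfl⟩ := hfsurj t
      exact himg g.1 g.2
    have hc1 : Nat.card (Subgroup.zpowers u) = 12 := by
      rw [htop, Subgroup.card_top, card_a4_80]
    rw [Nat.card_zpowers] at hc1
    have hc2 := Nat.le_of_dvd (by norm_num) (orderOf_dvd_of_pow_eq_one hu3)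
    omega
  have hv1 : v ≠ 1 := fun h => hvu (h ▸ Subgroup.one_mem _)
  have hvneu : v ≠ u := fun h => hvu (h ▸ Subgroup.mem_zpowers u)
  have hvneu' : v ≠ u⁻¹ := fun h => hvu (h ▸ Subgroup.inv_mem _ (Subgroup.mem_zpowers u))
  -- the element `x`
  have hxex : ∃ xL : ↥(Subgroup.closure ({w, a} : Set G)),
      (a = (xL : G)⁻¹ * w ∨ a = w⁻¹ * (xL : G)) ∧ f xL ≠ 1 ∧ f xL * f xL = 1 ∧
      (f xL * (u * f xL * u⁻¹)) * (f xL * (u * f xL * u⁻¹)) = 1 ∧
      f xL * (u * f xL * u⁻¹) ≠ 1 ∧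
      u * (u * f xL * u⁻¹) * u⁻¹ = f xL * (u * f xL * u⁻¹) := by
    rcases a4_facts80 u v hu3 hu1 hv3 hv1 hvneu hvneu' with h | h
    · refine ⟨wL * aL⁻¹, Or.inl ?_, ?_⟩
      · rw [Subgroup.coe_mul, Subgroup.coe_inv, hwLc, haLc]
        group
      · rw [map_mul, map_inv, ← hu, ← hv]
        exact h
    · refine ⟨wL * aL, Or.inr ?_, ?_⟩
      · rw [Subgroup.coe_mul, hwLc, haLc]
        group
      · rw [map_mul, ← hu, ← hv]
        exact h
  obtain ⟨xL, hax, ht1, ht2, htt2, htt1, hconj⟩ := hxex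
  obtain ⟨x, hx⟩ : ∃ x : G, x = (xL : G) := ⟨_, rfl⟩
  rw [← hx] at hax
  obtain ⟨yL, hyL⟩ : ∃ yL : ↥(Subgroup.closure ({w, a} : Set G)), yL = wL * xL * wL⁻¹ := ⟨_, rfl⟩
  have hfy : f yL = u * f xL * u⁻¹ := by
    rw [hyL, map_mul, map_mul, map_inv, ← hu]
  obtain ⟨y, hy⟩ : ∃ y : G, y = w * x * w⁻¹ := ⟨_, rfl⟩
  have hyc : (yL : G) = y := by
    rw [hyL, hy, Subgroup.coe_mul, Subgroup.coe_mul, Subgroup.coe_inv, hwLc, hx]
  obtain ⟨W, hWdef⟩ : ∃ W : Module.End (ZMod p) V, W = ρ w := ⟨_, rfl⟩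
  obtain ⟨W', hW'def⟩ : ∃ W' : Module.End (ZMod p) V, W' = ρ w⁻¹ := ⟨_, rfl⟩
  have hWW' : W * W' = 1 := by
    rw [hWdef, hW'def, ← map_mul, mul_inv_cancel, map_one]
  have hW'W : W' * W = 1 := by
    rw [hWdef, hW'def, ← map_mul, inv_mul_cancel, map_one]
  obtain ⟨X₀, hX₀⟩ : ∃ X₀ : Module.End (ZMod p) V, X₀ = ρ x := ⟨_, rfl⟩
  obtain ⟨Y₀, hY₀⟩ : ∃ Y₀ : Module.End (ZMod p) V, Y₀ = ρ y := ⟨_, rfl⟩
  have hYdef : Y₀ = W * X₀ * W' := by
    rw [hY₀, hy, map_mul, map_mul, ← hWdef, ← hX₀, ← hW'def]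
  have hXX : X₀ * X₀ = -1 := by
    rw [hX₀, hx]
    exact hinvol xL ht1 ht2
  have hYY : Y₀ * Y₀ = -1 := by
    have e : Y₀ * Y₀ = W * (X₀ * (W' * W) * X₀) * W' := by
      rw [hYdef]
      simp only [mul_assoc]
    rw [e, hW'W, mul_one, hXX, mul_neg, mul_one, neg_mul, hWW']
  have hXYXY : (X₀ * Y₀) * (X₀ * Y₀) = -1 := by
    have h := hinvol (xL * yL) (by rw [map_mul, hfy]; exact htt1) (by
      rw [map_mul, hfy]; exact htt2)
    rw [Subgroup.coe_mul, hyc, ← hx, map_mul, ← hX₀, ← hY₀] at h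
    exact h
  have hYX : Y₀ * X₀ = -(X₀ * Y₀) := anti80 X₀ Y₀ hXX hYY hXYXY
  have hWX : W * X₀ = Y₀ * W := by
    rw [hYdef, mul_assoc, hW'W, mul_one]
  -- the third conjugate
  have hthird : W * Y₀ * W' = X₀ * Y₀ ∨ W * Y₀ * W' = -(X₀ * Y₀) := by
    have hfg : f (wL * yL * wL⁻¹ * (xL * yL)⁻¹) = 1 := by
      rw [map_mul, map_mul, map_mul, map_inv, map_inv, map_mul, ← hu, hfy, hconj,
        mul_inv_cancel]
    have e1 : ρ ((wL * yL * wL⁻¹ : ↥(Subgroup.closure ({w, a} : Set G))) : G) = W * Y₀ * W' := by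
      rw [Subgroup.coe_mul, Subgroup.coe_mul, Subgroup.coe_inv, hwLc, hyc, map_mul, map_mul,
        ← hWdef, ← hY₀, ← hW'def]
    have e2 : ρ ((xL * yL : ↥(Subgroup.closure ({w, a} : Set G))) : G) = X₀ * Y₀ := by
      rw [Subgroup.coe_mul, hyc, ← hx, map_mul, ← hX₀, ← hY₀]
    rcases hker _ hfg with h | h
    · left
      have h' : wL * yL * wL⁻¹ = xL * yL := mul_inv_eq_one.mp h
      rw [← e1, ← e2, h']
    · right
      have h' : wL * yL * wL⁻¹ = z * (xL * yL) := mul_inv_eq_iff_eq_mul.mp h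
      rw [← e1, h', Subgroup.coe_mul, ← hz₀, map_mul, hρz, e2, neg_mul, one_mul]
  refine ⟨x, z₀, ?_⟩
  rcases hthird with h | h
  · refine ⟨X₀, Y₀, hx ▸ xL.2, hz₀1, hz₀2, Or.inl hX₀, hXX, hYY, hYX, ?_, ?_, hax⟩
    · rw [← hWdef]
      exact hWX
    · rw [← hWdef]
      have e : W * Y₀ = (W * Y₀ * W') * W := by
        rw [mul_assoc, hW'W, mul_one]
      rw [e, h, mul_assoc]
  · refine ⟨-X₀, -Y₀, hx ▸ xL.2, hz₀1, hz₀2, Or.inr (by rw [hX₀]), ?_, ?_, ?_, ?_, ?_, hax⟩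
    · rw [neg_mul_neg, hXX]
    · rw [neg_mul_neg, hYY]
    · rw [neg_mul_neg, neg_mul_neg, hYX]
    · rw [← hWdef, mul_neg, neg_mul, hWX]
    · rw [← hWdef]
      have e : W * Y₀ = (W * Y₀ * W') * W := by
        rw [mul_assoc, hW'W, mul_one]
      rw [mul_neg, e, h, neg_mul, neg_neg, neg_mul, neg_mul, mul_neg, neg_neg, mul_assoc]

end Cfsg.Agent.Lib.Helper80.Zass
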