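import Mathlib

/-!
# ZASS (S0690), package [T1], part 1 (helper80): ring identities

* `rigid80`: in a ring where `4` is cancellable, if `W² + W + 1 = 0`, `X² = Y² = -1`, `YX = -XY`,
  `WX = YW`, `WY = XYW` then `2W + 1 + (X + Y + XY) = 0`.
* `quat80_*`: the consequences for `s = X + Y + XY`, `u = X - Y`.
-/

set_option autoImplicit false
set_option linter.unusedSimpArgs false

namespace Cfsg.Agent.Lib.Helper80.Zass

section quat

variable {R : Type*} [Ring R] (X Y : R) (hX : X * X = -1) (hY : Y * Y = -1)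
  (hYX : Y * X = -(X * Y))

include hX hY hYX

theorem quat80_ss : (X + Y + X * Y) * (X + Y + X * Y) = -(1 + 1 + 1) := by
  have hXX' : ∀ t : R, X * (X * t) = -t := by
    intro t; rw [← mul_assoc, hX, neg_mul, one_mul]
  have hYY' : ∀ t : R, Y * (Y * t) = -t := by
    intro t; rw [← mul_assoc, hY, neg_mul, one_mul]
  have hYX' : ∀ t : R, Y * (X * t) = -(X * (Y * t)) := by
    intro t; rw [← mul_assoc, hYX, neg_mul, mul_assoc]
  simp only [add_mul, mul_add, mul_assoc, hX, hY, hYX, hXX', hYY', hYX', mul_neg, neg_mul,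
    mul_one, one_mul, neg_neg]
  abel

theorem quat80_sX : (X + Y + X * Y) * X = Y * (X + Y + X * Y) + Y - X := by
  have hXX' : ∀ t : R, X * (X * t) = -t := by
    intro t; rw [← mul_assoc, hX, neg_mul, one_mul]
  have hYY' : ∀ t : R, Y * (Y * t) = -t := by
    intro t; rw [← mul_assoc, hY, neg_mul, one_mul]
  have hYX' : ∀ t : R, Y * (X * t) = -(X * (Y * t)) := by
    intro t; rw [← mul_assoc, hYX, neg_mul, mul_assoc]
  simp only [add_mul, mul_add, mul_assoc, hX, hY, hYX, hXX', hYY', hYX', mul_neg, neg_mul,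
    mul_one, one_mul, neg_neg]
  abel

theorem quat80_sY : (X + Y + X * Y) * Y = X * (Y * (X + Y + X * Y)) + X * Y - Y := by
  have hXX' : ∀ t : R, X * (X * t) = -t := by
    intro t; rw [← mul_assoc, hX, neg_mul, one_mul]
  have hYY' : ∀ t : R, Y * (Y * t) = -t := by
    intro t; rw [← mul_assoc, hY, neg_mul, one_mul]
  have hYX' : ∀ t : R, Y * (X * t) = -(X * (Y * t)) := by
    intro t; rw [← mul_assoc, hYX, neg_mul, mul_assoc]
  simp only [add_mul, mul_add, mul_assoc, hX, hY, hYX, hXX', hYY', hYX', mul_neg, neg_mul,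
    mul_one, one_mul, neg_neg]
  abel

theorem quat80_uu : (X - Y) * (X - Y) = -(1 + 1) := by
  simp only [sub_mul, mul_sub, hX, hY, hYX]
  abel

theorem quat80_us : (X - Y) * (X + Y + X * Y) = -((X + Y + X * Y) * (X - Y)) := by
  have hXX' : ∀ t : R, X * (X * t) = -t := by
    intro t; rw [← mul_assoc, hX, neg_mul, one_mul]
  have hYY' : ∀ t : R, Y * (Y * t) = -t := by
    intro t; rw [← mul_assoc, hY, neg_mul, one_mul]
  have hYX' : ∀ t : R, Y * (X * t) = -(X * (Y * t)) := by
    intro t; rw [← mul_assoc, hYX, neg_mul, mul_assoc]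
  simp only [add_mul, mul_add, sub_mul, mul_sub, mul_assoc, hX, hY, hYX, hXX', hYY', hYX',
    mul_neg, neg_mul, mul_one, one_mul, neg_neg]
  abel

/-- `6 X = 2 s + 3 u + s u`. -/
theorem quat80_six : X + X + X + X + X + X =
    (X + Y + X * Y) + (X + Y + X * Y) + ((X - Y) + (X - Y) + (X - Y)) +
      (X + Y + X * Y) * (X - Y) := by
  have hXX' : ∀ t : R, X * (X * t) = -t := by
    intro t; rw [← mul_assoc, hX, neg_mul, one_mul]
  have hYY' : ∀ t : R, Y * (Y * t) = -t := by
    intro t; rw [← mul_assoc, hY, neg_mul, one_mul]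
  have hYX' : ∀ t : R, Y * (X * t) = -(X * (Y * t)) := by
    intro t; rw [← mul_assoc, hYX, neg_mul, mul_assoc]
  simp only [add_mul, mul_add, sub_mul, mul_sub, mul_assoc, hX, hY, hYX, hXX', hYY', hYX',
    mul_neg, neg_mul, mul_one, one_mul, neg_neg]
  abel

end quat

/-- rigidity of `w` in a line. -/
theorem rigid80 {R : Type*} [Ring R] (h4 : ∀ D : R, D + D + D + D = 0 → D = 0) (W X Y : R)
    (hW : W * W = -W - 1) (hX : X * X = -1) (hY : Y * Y = -1) (hYX : Y * X = -(X * Y))
    (hWX : W * X = Y * W) (hWY : W * Y = X * (Y * W)) :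
    W + W + 1 + (X + Y + X * Y) = 0 := by
  have hXX' : ∀ t : R, X * (X * t) = -t := by
    intro t; rw [← mul_assoc, hX, neg_mul, one_mul]
  have hYY' : ∀ t : R, Y * (Y * t) = -t := by
    intro t; rw [← mul_assoc, hY, neg_mul, one_mul]
  have hYX' : ∀ t : R, Y * (X * t) = -(X * (Y * t)) := by
    intro t; rw [← mul_assoc, hYX, neg_mul, mul_assoc]
  obtain ⟨s, hs⟩ : ∃ s : R, s = X + Y + X * Y := ⟨_, rfl⟩
  obtain ⟨T, hT⟩ : ∃ T : R, T = W + W + 1 := ⟨_, rfl⟩
  obtain ⟨D, hD⟩ : ∃ D : R, D = T + s := ⟨_, rfl⟩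
  have a1 : s * X = Y * s + Y - X := by
    rw [hs]; exact quat80_sX X Y hX hY hYX
  have a2 : s * Y = X * (Y * s) + X * Y - Y := by
    rw [hs]; exact quat80_sY X Y hX hY hYX
  have s2 : s * s = -(1 + 1 + 1) := by
    rw [hs]; exact quat80_ss X Y hX hY hYX
  have t1 : T * T = -(1 + 1 + 1) := by
    rw [hT]
    simp only [add_mul, mul_add, hW, mul_one, one_mul]
    abel
  have tx : T * X = Y * T - Y + X := by
    rw [hT]
    simp only [add_mul, mul_add, hWX, mul_one, one_mul]
    abel
  have ty : T * Y = X * (Y * T) - X * Y + Y := by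
    rw [hT]
    simp only [add_mul, mul_add, hWY, mul_one, one_mul]
    abel
  have d1 : D * X = Y * D := by
    rw [hD, add_mul, tx, a1, mul_add]
    abel
  have d2 : D * Y = X * (Y * D) := by
    rw [hD, add_mul, ty, a2, mul_add, mul_add]
    abel
  have d3 : D * (X * Y) = X * D := by
    rw [← mul_assoc, d1, mul_assoc, d2, hYX', hYY', mul_neg, neg_neg]
  have d4 : D * s = s * D := by
    rw [hs, mul_add, mul_add, d1, d2, d3, add_mul, add_mul, mul_assoc]
    abel
  have ts : T * s = s * T := by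
    rw [hD, add_mul, mul_add] at d4
    exact add_right_cancel d4
  have e2 : T * D = s * D := by
    rw [hD, mul_add, mul_add, t1, s2, ts]
    abel
  have m1 : T * (X * D) = Y * (s * D) - Y * D + X * D := by
    rw [← mul_assoc, tx, add_mul, sub_mul, mul_assoc, e2]
  have m2 : T * (X * D) = s * (X * D) := by
    rw [← d3, ← mul_assoc, e2, mul_assoc]
  have m3 : (Y - X) * D + (Y - X) * D = 0 := by
    have h := m1.symm.trans m2
    have h' : s * (X * D) = (Y * s + Y - X) * D := by rw [← mul_assoc, a1]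
    rw [h'] at h
    simp only [add_mul, sub_mul, mul_assoc] at h ⊢
    have h2 : Y * D - X * D + (Y * D - X * D) =
        (Y * (s * D) + Y * D - X * D) - (Y * (s * D) - Y * D + X * D) := by abel
    rw [h2, ← h, sub_self]
  have m4 : D + D + D + D = 0 := by
    have h := congrArg (fun t => (Y - X) * t) m3
    simp only [mul_add, mul_zero] at h
    have e : (Y - X) * ((Y - X) * D) = -(D + D) := by
      rw [← mul_assoc]
      have e' : (Y - X) * (Y - X) = -(1 + 1) := by
        simp only [sub_mul, mul_sub, hX, hY, hYX]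
        abel
      rw [e', neg_mul, add_mul, one_mul]
    rw [e] at h
    have h3 : D + D + D + D = -(-(D + D) + -(D + D)) := by abel
    rw [h3, h, neg_zero]
  have hD0 := h4 D m4
  rw [hD, hT, hs] at hD0
  exact hD0

end Cfsg.Agent.Lib.Helper80.Zass
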